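import Mathlib
import Cfsg.Prelude.Def_SporadicCombinatorics
import Cfsg.Agent.Lib.Helper7.LeechBasic
import Cfsg.Agent.Lib.Helper8.Golay
import Cfsg.Agent.Lib.Helper93.M24Mem

set_option autoImplicit false

/-! The monomial maps `signedPerm σ c` (`σ ∈ M24`, `c` a codeword support) preserve the Leech lattice. -/

namespace Cfsg.Agent.Lib.Helper93.LM

open Cfsg Cfsg.Agent.Lib.Helper7
open scoped Pointwise

/-- coordinate permutations by elements of `M24` preserve `leechSet` -/
theorem perm_mem_leechSet {σ : Equiv.Perm GolayPt} (hσ : σ ∈ M24) {x : GolayPt → ℤ}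
    (hx : x ∈ leechSet) : (fun i => x (σ.symm i)) ∈ leechSet := by
  rw [mem_leechSet_iff] at hx ⊢
  obtain ⟨m, h1, h2, h3⟩ := hx
  refine ⟨m, fun i => h1 _, ?_, ?_⟩
  · rw [Equiv.sum_comp σ.symm x]; exact h2
  · have : (Finset.univ.filter fun i => x (σ.symm i) ≡ m + 2 [ZMOD 4]) =
        σ • (Finset.univ.filter fun i => x i ≡ m + 2 [ZMOD 4]) := by
      ext i
      rw [Finset.mem_smul_finset]
      simp only [Finset.mem_filter, Finset.mem_univ, true_and, Equiv.Perm.smul_def]
      constructor
      · intro h
        exact ⟨σ.symm i, h, by simp⟩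
      · rintro ⟨j, hj, rfl⟩
        simpa using hj
    rw [this]
    exact Cfsg.Agent.Lib.Helper93.M24.smul_mem_supports hσ h3

/-- sign changes on codeword supports preserve `leechSet` -/
theorem sign_mem_leechSet {c : Finset GolayPt} (hc : c ∈ GC) {z : GolayPt → ℤ}
    (hz : z ∈ leechSet) : (fun i => if i ∈ c then -z i else z i) ∈ leechSet := by
  rw [mem_leechSet_iff] at hz ⊢
  obtain ⟨m, h1, h2, h3⟩ := hz
  set A := Finset.univ.filter fun i => z i ≡ m + 2 [ZMOD 4] with hA
  refine ⟨m, fun i => ?_, ?_, ?_⟩
  · have := h1 i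
    simp only [Int.ModEq] at this ⊢
    split_ifs <;> omega
  · -- the sum
    have hsum : ∑ i, (if i ∈ c then -z i else z i) = ∑ i, z i - 2 * ∑ i ∈ c, z i := by
      have : ∀ i, (if i ∈ c then -z i else z i) = z i - 2 * (if i ∈ c then z i else 0) := by
        intro i; split_ifs <;> ring
      simp only [this]
      rw [Finset.sum_sub_distrib, ← Finset.mul_sum, Finset.sum_ite_mem, Finset.univ_inter]
    have hc4 : (∑ i ∈ c, z i) ≡ ∑ i ∈ c, (m + if i ∈ A then 2 else 0) [ZMOD 4] := by
      apply Int.ModEq.sum
      intro i _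
      have := h1 i
      by_cases hi : i ∈ A
      · have hi' : z i ≡ m + 2 [ZMOD 4] := by simpa [hA] using hi
        simpa [hi] using hi'
      · have hi' : ¬ z i ≡ m + 2 [ZMOD 4] := by simpa [hA] using hi
        simp only [hi, if_false, add_zero]
        simp only [Int.ModEq] at this hi' ⊢
        omega
    have hval : ∑ i ∈ c, (m + if i ∈ A then (2 : ℤ) else 0) = c.card * m + 2 * (c ∩ A).card := by
      rw [Finset.sum_add_distrib, Finset.sum_const, Finset.sum_ite_mem, Finset.sum_const]
      simp only [nsmul_eq_mul]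
      ring
    obtain ⟨k, hk⟩ := Cfsg.Agent.Lib.Helper8.golay_four_dvd hc
    obtain ⟨l, hl⟩ := Cfsg.Agent.Lib.Helper8.golay_inter_even hc h3
    rw [hval, hk, hl] at hc4
    rw [hsum]
    push_cast at hc4
    simp only [Int.ModEq] at h2 hc4 ⊢
    generalize ∑ i ∈ c, z i = S at hc4
    generalize ∑ i, z i = T at h2
    have e : ((4 : ℤ) * k * m + 2 * (l + l)) % 4 = 0 := by
      have : (4 : ℤ) * k * m + 2 * (l + l) = 4 * (k * m + l) := by ring
      rw [this]; exact Int.mul_emod_right 4 _
    rw [e] at hc4
    omega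
  · rcases Int.emod_two_eq_zero_or_one m with hm | hm
    · have : (Finset.univ.filter fun i => (if i ∈ c then -z i else z i) ≡ m + 2 [ZMOD 4]) = A := by
        ext i
        have := h1 i
        simp only [hA, Finset.mem_filter, Finset.mem_univ, true_and]
        simp only [Int.ModEq] at this ⊢
        split_ifs <;> omega
      rw [this]; exact h3
    · have : (Finset.univ.filter fun i => (if i ∈ c then -z i else z i) ≡ m + 2 [ZMOD 4]) =
          symmDiff A c := by
        ext i
        have := h1 i
        simp only [hA, Finset.mem_filter, Finset.mem_univ, true_and, Finset.mem_symmDiff]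
        simp only [Int.ModEq] at this ⊢
        by_cases hi : i ∈ c
        · simp only [hi, if_true, not_true_eq_false, and_false, true_and, false_or]
          omega
        · simp only [hi, if_false, not_false_eq_true, and_true, false_and, or_false]
      rw [this]; exact GC_symmDiff h3 hc

/-- monomial maps preserve the Leech lattice -/
theorem signedPerm_mem {σ : Equiv.Perm GolayPt} (hσ : σ ∈ M24) {c : Finset GolayPt} (hc : c ∈ GC)
    {x : GolayPt → ℤ} (hx : x ∈ leechLattice) : signedPerm σ c x ∈ leechLattice := by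
  rw [mem_leechLattice_iff] at hx ⊢
  exact sign_mem_leechSet hc (perm_mem_leechSet hσ hx)

theorem signedPerm_add (σ : Equiv.Perm GolayPt) (c : Finset GolayPt) (x y : GolayPt → ℤ) :
    signedPerm σ c (x + y) = signedPerm σ c x + signedPerm σ c y := by
  funext i
  simp only [signedPerm, Pi.add_apply]
  split_ifs <;> ring

theorem signedPerm_neg (σ : Equiv.Perm GolayPt) (c : Finset GolayPt) (x : GolayPt → ℤ) :
    signedPerm σ c (-x) = -signedPerm σ c x := by
  funext i
  simp only [signedPerm, Pi.neg_apply]
  split_ifs <;> ring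

theorem sqNorm_signedPerm (σ : Equiv.Perm GolayPt) (c : Finset GolayPt) (x : GolayPt → ℤ) :
    sqNorm (signedPerm σ c x) = sqNorm x := by
  unfold sqNorm
  have : ∀ i, signedPerm σ c x i ^ 2 = (fun j => x j ^ 2) (σ.symm i) := by
    intro i
    simp only [signedPerm]
    split_ifs <;> ring
  simp only [this]
  exact Equiv.sum_comp σ.symm (fun j => x j ^ 2)

end Cfsg.Agent.Lib.Helper93.LM
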