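import Mathlib
import Cfsg.Prelude.Def_Transfer
import Cfsg.Prelude.Def_Solvable

set_option autoImplicit false

namespace Cfsg.Agent.Lib.Helper93

open scoped commutatorElement

section pCore
variable {H : Type*} [Group H]

theorem pCore_normal (p : ℕ) : (Cfsg.pCore p H).Normal :=
  Subgroup.sSup_normal _ fun _ h => h.1

theorem pCore_isPGroup (p : ℕ) [Fact p.Prime] [Finite H] : IsPGroup p (Cfsg.pCore p H) := by
  obtain ⟨P⟩ : Nonempty (Sylow p H) := inferInstance
  have h : Cfsg.pCore p H ≤ P := sSup_le (fun N hN => by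
    have := hN.1
    exact hN.2.le_sylow_of_normal P)
  exact P.isPGroup'.to_le h

theorem le_pCore {p : ℕ} {N : Subgroup H} (hN : N.Normal) (hp : IsPGroup p N) :
    N ≤ Cfsg.pCore p H := le_sSup ⟨hN, hp⟩

end pCore

variable {G : Type*} [Group G]

/-- `O_2(C_G(x))` as a subgroup of `G`. -/
def QQ (x : G) : Subgroup G :=
  (Cfsg.pCore 2 ↥(Subgroup.centralizer ({x} : Set G))).map (Subgroup.centralizer ({x} : Set G)).subtype

theorem QQ_le_centralizer (x : G) : QQ x ≤ Subgroup.centralizer ({x} : Set G) := by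
  unfold QQ
  exact Subgroup.map_subtype_le _

theorem QQ_comm {x q : G} (hq : q ∈ QQ x) : q * x = x * q := by
  have := QQ_le_centralizer x hq
  rw [Subgroup.mem_centralizer_singleton_iff] at this
  exact this

theorem QQ_isPGroup [Finite G] (x : G) : IsPGroup 2 (QQ x) := by
  unfold QQ
  have : Fact (Nat.Prime 2) := ⟨Nat.prime_two⟩
  exact (pCore_isPGroup 2).map _

theorem QQ_conj_mem {x h q : G} (hh : h ∈ Subgroup.centralizer ({x} : Set G)) (hq : q ∈ QQ x) :
    h * q * h⁻¹ ∈ QQ x := by
  unfold QQ at hq ⊢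
  rw [Subgroup.mem_map] at hq ⊢
  obtain ⟨q', hq', rfl⟩ := hq
  refine ⟨⟨h, hh⟩ * q' * ⟨h, hh⟩⁻¹, (pCore_normal 2).conj_mem _ hq' _, ?_⟩
  simp

theorem le_QQ {x : G} {N : Subgroup G} (hN : N ≤ Subgroup.centralizer ({x} : Set G))
    (hp : IsPGroup 2 N)
    (hn : ∀ h ∈ Subgroup.centralizer ({x} : Set G), ∀ n ∈ N, h * n * h⁻¹ ∈ N) : N ≤ QQ x := by
  unfold QQ
  have h1 : (N.subgroupOf (Subgroup.centralizer ({x} : Set G))).Normal := by
    refine ⟨fun n hn' g => ?_⟩
    rw [Subgroup.mem_subgroupOf] at hn' ⊢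
    simpa using hn g g.2 n hn'
  have h2 : IsPGroup 2 (N.subgroupOf (Subgroup.centralizer ({x} : Set G))) :=
    hp.comap_subtype
  have h3 := le_pCore h1 h2
  intro n hn'
  rw [Subgroup.mem_map]
  exact ⟨⟨n, hN hn'⟩, h3 (by rw [Subgroup.mem_subgroupOf]; exact hn'), rfl⟩

theorem conj_mem_centralizer_conj {x g h : G} (hh : h ∈ Subgroup.centralizer ({x} : Set G)) :
    g * h * g⁻¹ ∈ Subgroup.centralizer ({g * x * g⁻¹} : Set G) := by
  rw [Subgroup.mem_centralizer_singleton_iff] at hh ⊢
  calc g * h * g⁻¹ * (g * x * g⁻¹) = g * (h * x) * g⁻¹ := by group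
    _ = g * (x * h) * g⁻¹ := by rw [hh]
    _ = _ := by group

theorem QQ_conj_le [Finite G] (x g : G) :
    (QQ x).map (MulAut.conj g).toMonoidHom ≤ QQ (g * x * g⁻¹) := by
  apply le_QQ
  · rintro _ ⟨q, hq, rfl⟩
    exact conj_mem_centralizer_conj (QQ_le_centralizer x hq)
  · exact (QQ_isPGroup x).map _
  · rintro h hh _ ⟨q, hq, rfl⟩
    refine ⟨(g⁻¹ * h * g) * q * (g⁻¹ * h * g)⁻¹, ?_, ?_⟩
    · apply QQ_conj_mem _ hq
      have := conj_mem_centralizer_conj (g := g⁻¹) hh
      simpa [mul_assoc] using this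
    · simp [mul_assoc]

theorem conj_mem_QQ [Finite G] {x q : G} (g : G) (hq : q ∈ QQ x) :
    g * q * g⁻¹ ∈ QQ (g * x * g⁻¹) :=
  QQ_conj_le x g ⟨q, hq, by simp⟩

theorem conj_mem_QQ_iff [Finite G] {x q : G} (g : G) :
    g * q * g⁻¹ ∈ QQ (g * x * g⁻¹) ↔ q ∈ QQ x := by
  refine ⟨fun h => ?_, conj_mem_QQ g⟩
  have := conj_mem_QQ g⁻¹ h
  simpa [mul_assoc] using this

theorem self_mem_QQ {x : G} (hx : orderOf x = 2) : x ∈ QQ x := by
  have : Subgroup.zpowers x ≤ QQ x := by
    apply le_QQ
    · rw [Subgroup.zpowers_le, Subgroup.mem_centralizer_singleton_iff]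
    · rw [IsPGroup]
      rintro ⟨y, hy⟩
      refine ⟨1, ?_⟩
      obtain ⟨k, rfl⟩ := Subgroup.mem_zpowers_iff.mp hy
      ext
      simp only [pow_one, Subgroup.coe_pow, Subgroup.coe_one]
      rw [← zpow_natCast, ← zpow_mul, mul_comm, zpow_mul]
      have : x ^ 2 = 1 := by rw [← hx]; exact pow_orderOf_eq_one x
      simp [this]
    · intro h hh n hn
      obtain ⟨k, rfl⟩ := Subgroup.mem_zpowers_iff.mp hn
      rw [Subgroup.mem_centralizer_singleton_iff] at hh
      have : h * x ^ k * h⁻¹ = x ^ k := by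
        have hc : Commute h x := hh
        rw [(hc.zpow_right k).eq]; group
      rw [this]; exact hn
  exact this (Subgroup.mem_zpowers x)

/-- Elementary form of "`Q` is an extraspecial 2-group with centre `⟨z⟩`". -/
structure ES (Q : Subgroup G) (z : G) : Prop where
  z_mem : z ∈ Q
  z_ne : z ≠ 1
  z_sq : z * z = 1
  z_comm : ∀ a ∈ Q, a * z = z * a
  comm : ∀ a ∈ Q, ∀ b ∈ Q, a * b = b * a ∨ a * b = z * (b * a)
  center : ∀ a ∈ Q, (∀ b ∈ Q, a * b = b * a) → a = 1 ∨ a = z

theorem ES.of_isExtraspecial {Q : Subgroup G} {z : G} (hE : Cfsg.IsExtraspecial 2 ↥Q)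
    (hz : z ∈ Q) (hz1 : z ≠ 1) (hz2 : z * z = 1) (hzc : ∀ a ∈ Q, a * z = z * a) : ES Q z := by
  obtain ⟨⟨_, _, hcomm⟩, hcard⟩ := hE
  have hzcen : (⟨z, hz⟩ : ↥Q) ∈ Subgroup.center ↥Q := by
    rw [Subgroup.mem_center_iff]
    rintro ⟨a, ha⟩
    ext
    exact hzc a ha
  have hcen : ∀ a : ↥Q, a ∈ Subgroup.center ↥Q → a = 1 ∨ a = ⟨z, hz⟩ := by
    intro a ha
    rw [Nat.card_eq_two_iff' (1 : ↥(Subgroup.center ↥Q))] at hcard
    obtain ⟨y, _, hy⟩ := hcard
    by_cases h1 : a = 1
    · exact Or.inl h1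
    right
    have e1 := hy ⟨a, ha⟩ (by intro h; apply h1; simpa using congrArg Subtype.val h)
    have e2 := hy ⟨⟨z, hz⟩, hzcen⟩ (by
      intro h; apply hz1
      simpa using congrArg (fun t : ↥(Subgroup.center ↥Q) => ((t : ↥Q) : G)) h)
    have := e1.trans e2.symm
    simpa using congrArg Subtype.val this
  refine ⟨hz, hz1, hz2, hzc, ?_, ?_⟩
  · intro a ha b hb
    have h1 : ⁅(⟨a, ha⟩ : ↥Q), ⟨b, hb⟩⁆ ∈ commutator ↥Q :=
      Subgroup.commutator_mem_commutator (Subgroup.mem_top _) (Subgroup.mem_top _)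
    rw [hcomm] at h1
    rcases hcen _ h1 with h | h
    · left
      have := congrArg Subtype.val h
      simp only [commutatorElement_def, Subgroup.coe_mul, Subgroup.coe_inv, Subgroup.coe_one] at this
      calc a * b = (a * b * a⁻¹ * b⁻¹) * (b * a) := by group
        _ = b * a := by rw [this, one_mul]
    · right
      have := congrArg Subtype.val h
      simp only [commutatorElement_def, Subgroup.coe_mul, Subgroup.coe_inv] at this
      calc a * b = (a * b * a⁻¹ * b⁻¹) * (b * a) := by group
        _ = z * (b * a) := by rw [this]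
  · intro a ha hab
    have : (⟨a, ha⟩ : ↥Q) ∈ Subgroup.center ↥Q := by
      rw [Subgroup.mem_center_iff]
      rintro ⟨b, hb⟩
      ext
      exact (hab b hb).symm
    rcases hcen _ this with h | h
    · left; simpa using congrArg Subtype.val h
    · right; simpa using congrArg Subtype.val h

namespace ES

variable {Q : Subgroup G} {z : G}

theorem ne_iff (h : ES Q z) {a b : G} (ha : a ∈ Q) (hb : b ∈ Q) :
    a * b ≠ b * a ↔ a * b = z * (b * a) := by
  constructor
  · intro hne
    exact (h.comm a ha b hb).resolve_left hne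
  · intro he hc
    rw [hc] at he
    exact h.z_ne (by simpa using he.symm)

theorem z_inv (h : ES Q z) : z⁻¹ = z := inv_eq_of_mul_eq_one_left h.z_sq

/-- bilinearity of the commutator form, right argument -/
theorem comm_mul_iff (h : ES Q z) {c a b : G} (hc : c ∈ Q) (ha : a ∈ Q) (hb : b ∈ Q) :
    c * (a * b) = (a * b) * c ↔ (c * a = a * c ↔ c * b = b * c) := by
  have hab : a * b ∈ Q := Q.mul_mem ha hb
  rcases h.comm c hc a ha with h1 | h1 <;> rcases h.comm c hc b hb with h2 | h2
  · have : c * (a * b) = a * b * c := by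
      rw [← mul_assoc, h1, mul_assoc, h2, mul_assoc]
    simp [this, h1, h2]
  · have n2 : c * b ≠ b * c := (h.ne_iff hc hb).2 h2
    have : c * (a * b) = z * (a * b * c) := by
      rw [← mul_assoc, h1, mul_assoc, h2, ← mul_assoc, h.z_comm a ha]; simp only [mul_assoc]
    have n3 : c * (a * b) ≠ a * b * c := (h.ne_iff hc hab).2 this
    simp [n3, h1, n2]
  · have n1 : c * a ≠ a * c := (h.ne_iff hc ha).2 h1
    have : c * (a * b) = z * (a * b * c) := by
      rw [← mul_assoc, h1, mul_assoc, mul_assoc, h2]; simp only [mul_assoc]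
    have n3 : c * (a * b) ≠ a * b * c := (h.ne_iff hc hab).2 this
    simp [n3, n1, h2]
  · have n1 : c * a ≠ a * c := (h.ne_iff hc ha).2 h1
    have n2 : c * b ≠ b * c := (h.ne_iff hc hb).2 h2
    have : c * (a * b) = a * b * c := by
      calc c * (a * b) = (c * a) * b := by rw [mul_assoc]
        _ = z * (a * c) * b := by rw [h1]
        _ = z * (a * (c * b)) := by simp only [mul_assoc]
        _ = z * (a * (z * (b * c))) := by rw [h2]
        _ = z * ((a * z) * (b * c)) := by simp only [mul_assoc]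
        _ = z * ((z * a) * (b * c)) := by rw [h.z_comm a ha]
        _ = (z * z) * (a * b * c) := by simp only [mul_assoc]
        _ = a * b * c := by rw [h.z_sq, one_mul]
    simp [this, n1, n2]

/-- bilinearity of the commutator form, left argument -/
theorem mul_comm_iff (h : ES Q z) {c a b : G} (hc : c ∈ Q) (ha : a ∈ Q) (hb : b ∈ Q) :
    (a * b) * c = c * (a * b) ↔ (a * c = c * a ↔ b * c = c * b) := by
  have := h.comm_mul_iff hc ha hb
  constructor
  · intro h1
    have h2 := this.1 h1.symm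
    constructor
    · intro h3; exact (h2.1 h3.symm).symm
    · intro h3; exact (h2.2 h3.symm).symm
  · intro h1
    refine (this.2 ?_).symm
    constructor
    · intro h3; exact (h1.1 h3.symm).symm
    · intro h3; exact (h1.2 h3.symm).symm

/-- The "double perp" lemma: an element outside the subgroup generated by `z` and a finite set
`S ⊆ Q` is moved by some element of `Q` centralising `S`. -/
theorem exists_comm_not_comm (h : ES Q z) (S : Finset G) :
    (∀ s ∈ S, s ∈ Q) → ∀ x ∈ Q, x ∉ Subgroup.closure (insert z (S : Set G)) →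
      ∃ g ∈ Q, (∀ s ∈ S, g * s = s * g) ∧ g * x ≠ x * g := by
  classical
  induction S using Finset.induction_on with
  | empty =>
    intro _ x hx hxn
    by_contra hcon
    push Not at hcon
    have : x = 1 ∨ x = z := h.center x hx (fun b hb => (hcon b hb (by simp)).symm)
    rcases this with rfl | rfl
    · exact hxn (Subgroup.one_mem _)
    · exact hxn (Subgroup.subset_closure (by simp))
  | insert w S hw ih =>
    intro hS x hx hxn
    have hwQ : w ∈ Q := hS w (by simp)
    have hSQ : ∀ s ∈ S, s ∈ Q := fun s hs => hS s (by simp [hs])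
    have hle : Subgroup.closure (insert z (S : Set G)) ≤
        Subgroup.closure (insert z ((insert w S : Finset G) : Set G)) := by
      apply Subgroup.closure_mono
      intro y hy
      rcases hy with rfl | hy
      · simp
      · right; simp [Finset.mem_coe.mp hy]
    have hwW : w ∈ Subgroup.closure (insert z ((insert w S : Finset G) : Set G)) :=
      Subgroup.subset_closure (by simp)
    obtain ⟨g1, hg1, hg1S, hg1x⟩ := ih hSQ x hx (fun hc => hxn (hle hc))
    by_cases hg1w : g1 * w = w * g1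
    · refine ⟨g1, hg1, ?_, hg1x⟩
      intro s hs
      rcases Finset.mem_insert.mp hs with rfl | hs
      · exact hg1w
      · exact hg1S s hs
    obtain ⟨g2, hg2, hg2S, hg2xw⟩ := ih hSQ (x * w) (Q.mul_mem hx hwQ) (fun hc => hxn (by
      have := Subgroup.mul_mem _ (hle hc) (Subgroup.inv_mem _ hwW)
      simpa using this))
    have hb := h.comm_mul_iff hg2 hx hwQ
    by_cases hg2w : g2 * w = w * g2
    · refine ⟨g2, hg2, ?_, ?_⟩
      · intro s hs
        rcases Finset.mem_insert.mp hs with rfl | hs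
        · exact hg2w
        · exact hg2S s hs
      · intro hc
        exact hg2xw (hb.2 ⟨fun _ => hg2w, fun _ => hc⟩)
    · have hg2x : g2 * x = x * g2 := by
        by_contra hc
        exact hg2xw (hb.2 ⟨fun h' => absurd h' hc, fun h' => absurd h' hg2w⟩)
      refine ⟨g1 * g2, Q.mul_mem hg1 hg2, ?_, ?_⟩
      · intro s hs
        rcases Finset.mem_insert.mp hs with rfl | hs
        · exact (h.mul_comm_iff hwQ hg1 hg2).2 ⟨fun h' => absurd h' hg1w, fun h' => absurd h' hg2w⟩
        · rw [mul_assoc, hg2S s hs, ← mul_assoc, hg1S s hs, mul_assoc]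
      · intro hc
        exact hg1x (((h.mul_comm_iff hx hg1 hg2).1 hc).2 hg2x)

end ES

theorem QQ_conj_eq [Finite G] (x g : G) :
    QQ (g * x * g⁻¹) = (QQ x).map (MulAut.conj g).toMonoidHom := by
  apply le_antisymm _ (QQ_conj_le x g)
  intro q hq
  refine ⟨g⁻¹ * q * g, ?_, by simp [mul_assoc]⟩
  have := conj_mem_QQ g⁻¹ hq
  simpa [mul_assoc] using this

theorem ES.map {Q : Subgroup G} {z : G} (h : ES Q z) (e : G ≃* G) :
    ES (Q.map e.toMonoidHom) (e z) := by
  refine ⟨⟨z, h.z_mem, rfl⟩, ?_, ?_, ?_, ?_, ?_⟩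
  · intro hc
    exact h.z_ne (by simpa using hc)
  · rw [← map_mul, h.z_sq, map_one]
  · rintro _ ⟨a, ha, rfl⟩
    simp only [MulEquiv.coe_toMonoidHom]
    rw [← map_mul, ← map_mul, h.z_comm a ha]
  · rintro _ ⟨a, ha, rfl⟩ _ ⟨b, hb, rfl⟩
    simp only [MulEquiv.coe_toMonoidHom]
    rcases h.comm a ha b hb with h1 | h1
    · left; rw [← map_mul, ← map_mul, h1]
    · right; rw [← map_mul, ← map_mul, ← map_mul, h1]
  · rintro _ ⟨a, ha, rfl⟩ hab
    simp only [MulEquiv.coe_toMonoidHom] at hab ⊢
    have : a = 1 ∨ a = z := h.center a ha (fun b hb => by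
      have := hab (e b) ⟨b, hb, rfl⟩
      rw [← map_mul, ← map_mul] at this
      exact e.injective this)
    rcases this with rfl | rfl
    · left; simp
    · right; rfl

/-- The large-extraspecial setting at `z`. -/
structure LES (z : G) : Prop where
  order : orderOf z = 2
  es : ES (QQ z) z
  cent : Subgroup.centralizer ((QQ z : Subgroup G) : Set G) ≤ QQ z

theorem sq_of_orderOf {z : G} (hz : orderOf z = 2) : z * z = 1 := by
  rw [← pow_two, ← hz]; exact pow_orderOf_eq_one z

theorem ne_one_of_orderOf {z : G} (hz : orderOf z = 2) : z ≠ 1 := by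
  rintro rfl; simp at hz

theorem LES.of_hyp {z : G} (hz : orderOf z = 2) (hE : Cfsg.IsExtraspecial 2 ↥(QQ z))
    (hC : Subgroup.centralizer ((QQ z : Subgroup G) : Set G) ≤ QQ z) : LES z :=
  ⟨hz, ES.of_isExtraspecial hE (self_mem_QQ hz) (ne_one_of_orderOf hz) (sq_of_orderOf hz)
    (fun _ ha => QQ_comm ha), hC⟩

theorem LES.conj [Finite G] {z : G} (h : LES z) (g : G) : LES (g * z * g⁻¹) := by
  refine ⟨?_, ?_, ?_⟩
  · have := (MulAut.conj g).orderOf_eq z
    rw [MulAut.conj_apply] at this
    rw [this, h.order]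
  · rw [QQ_conj_eq]
    have := h.es.map (MulAut.conj g)
    rwa [MulAut.conj_apply] at this
  · intro c hc
    rw [Subgroup.mem_centralizer_iff] at hc
    have h1 : g⁻¹ * c * g ∈ Subgroup.centralizer ((QQ z : Subgroup G) : Set G) := by
      rw [Subgroup.mem_centralizer_iff]
      intro a ha
      have := hc (g * a * g⁻¹) (conj_mem_QQ g ha)
      calc a * (g⁻¹ * c * g) = g⁻¹ * ((g * a * g⁻¹) * c) * g := by group
        _ = g⁻¹ * (c * (g * a * g⁻¹)) * g := by rw [this]
        _ = _ := by group
    have h2 := conj_mem_QQ g (h.cent h1)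
    simpa [mul_assoc] using h2

theorem mem_closure_pair_invol {z x y : G} (hz2 : z * z = 1) (hx2 : x * x = 1)
    (hzx : z * x = x * z) (hy : y ∈ Subgroup.closure (insert z (({x} : Finset G) : Set G))) :
    y = 1 ∨ y = z ∨ y = x ∨ y = x * z := by
  have l2 : ∀ t : G, x * (x * t) = t := fun t => by rw [← mul_assoc, hx2, one_mul]
  have l3 : ∀ t : G, z * (x * t) = x * (z * t) := fun t => by
    rw [← mul_assoc, hzx, mul_assoc]
  induction hy using Subgroup.closure_induction with
  | mem y hy =>
    rcases hy with rfl | hy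
    · simp
    · have : y = x := by simpa using hy
      simp [this]
  | one => simp
  | mul a b _ _ ha hb =>
    rcases ha with rfl | rfl | rfl | rfl <;> rcases hb with rfl | rfl | rfl | rfl <;>
      simp [mul_assoc, hz2, hx2, hzx, l2, l3]
  | inv a _ ha =>
    have iz : z⁻¹ = z := inv_eq_of_mul_eq_one_left hz2
    have ix : x⁻¹ = x := inv_eq_of_mul_eq_one_left hx2
    rcases ha with rfl | rfl | rfl | rfl <;> simp [iz, ix, hzx]

namespace LES

variable {z : G}

theorem centralizer_R_aux (h : LES z) {x q c : G} (hq : q ∈ QQ z) (hx : x ∈ QQ z)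
    (hqx : q * x ≠ x * q)
    (hc : ∀ r ∈ QQ z, r * x = x * r → c * r = r * c) (hcq : c * q = q * c) : c = 1 ∨ c = z := by
  have hall : ∀ a ∈ QQ z, c * a = a * c := by
    intro a ha
    by_cases hax : a * x = x * a
    · exact hc a ha hax
    · have h1 : (a * q) * x = x * (a * q) :=
        (h.es.mul_comm_iff hx ha hq).2 ⟨fun h' => absurd h' hax, fun h' => absurd h' hqx⟩
      have h2 := hc (a * q) ((QQ z).mul_mem ha hq) h1
      calc c * a = c * (a * q) * q⁻¹ := by group
        _ = a * q * c * q⁻¹ := by rw [h2]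
        _ = a * (q * c) * q⁻¹ := by group
        _ = a * (c * q) * q⁻¹ := by rw [hcq]
        _ = a * c := by group
  have hcQ : c ∈ QQ z := h.cent (by
    rw [Subgroup.mem_centralizer_iff]
    intro a ha
    exact (hall a ha).symm)
  exact h.es.center c hcQ hall

theorem centralizer_R (h : LES z) {x c : G} (hx : x ∈ QQ z) (hx1 : x ≠ 1) (hxz : x ≠ z)
    (hx2 : x * x = 1) (hc : ∀ r ∈ QQ z, r * x = x * r → c * r = r * c) :
    c = 1 ∨ c = z ∨ c = x ∨ c = x * z := by
  have hes := h.es
  obtain ⟨q, hq, hqx⟩ : ∃ q ∈ QQ z, q * x ≠ x * q := by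
    by_contra hcon
    push Not at hcon
    rcases hes.center x hx (fun b hb => (hcon b hb).symm) with h1 | h1
    · exact hx1 h1
    · exact hxz h1
  have hqx' : q * x = z * (x * q) := (hes.ne_iff hq hx).1 hqx
  have hzx : z * x = x * z := (hes.z_comm x hx).symm
  have hcz : c * z = z * c := hc z hes.z_mem hzx
  have hcC : c ∈ Subgroup.centralizer ({z} : Set G) := by
    rw [Subgroup.mem_centralizer_singleton_iff]; exact hcz
  have hq' : c * q * c⁻¹ ∈ QQ z := QQ_conj_mem hcC hq
  set e := q⁻¹ * (c * q * c⁻¹) with he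
  have heQ : e ∈ QQ z := (QQ z).mul_mem ((QQ z).inv_mem hq) hq'
  have hqe : q * e = c * q * c⁻¹ := by rw [he]; group
  have hre : ∀ r ∈ QQ z, r * x = x * r → r * e = e * r := by
    intro r hr hrx
    have hcr := hc r hr hrx
    have h1 := hes.comm_mul_iff hr hq heQ
    rw [hqe] at h1
    have h2 : r * (c * q * c⁻¹) = c * q * c⁻¹ * r ↔ r * q = q * r := by
      have e1 : r * (c * q * c⁻¹) = c * (r * q) * c⁻¹ := by
        calc r * (c * q * c⁻¹) = (r * c) * q * c⁻¹ := by group
          _ = (c * r) * q * c⁻¹ := by rw [hcr]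
          _ = _ := by group
      have e2 : c * q * c⁻¹ * r = c * (q * r) * c⁻¹ := by
        have : c⁻¹ * r = r * c⁻¹ := by
          calc c⁻¹ * r = c⁻¹ * (r * c) * c⁻¹ := by group
            _ = c⁻¹ * (c * r) * c⁻¹ := by rw [hcr]
            _ = _ := by group
        calc c * q * c⁻¹ * r = c * q * (c⁻¹ * r) := by group
          _ = c * q * (r * c⁻¹) := by rw [this]
          _ = _ := by group
      rw [e1, e2]
      constructor
      · intro h'
        have := mul_right_cancel h'
        exact mul_left_cancel this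
      · intro h'; rw [h']
    rw [h2] at h1
    by_cases h3 : r * q = q * r
    · exact (h1.1 h3).1 h3
    · by_contra h4
      exact h3 (h1.2 ⟨fun h' => absurd h' h3, fun h' => absurd h' h4⟩)
  have hecl : e ∈ Subgroup.closure (insert z (({x} : Finset G) : Set G)) := by
    by_contra hcon
    obtain ⟨g, hg, hgS, hge⟩ := hes.exists_comm_not_comm {x} (by simpa using hx) e heQ hcon
    exact hge (hre g hg (hgS x (by simp)))
  have hqq : c * (q * q) = (q * q) * c :=
    hc (q * q) ((QQ z).mul_mem hq hq) ((hes.mul_comm_iff hx hq hq).2 Iff.rfl)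
  have heqe : e * q * e = q := by
    have : (q * e) * (q * e) = q * q := by
      rw [hqe]
      calc c * q * c⁻¹ * (c * q * c⁻¹) = c * (q * q) * c⁻¹ := by group
        _ = (q * q) * c * c⁻¹ := by rw [hqq]
        _ = q * q := by group
    have h2 : q * (e * q * e) = q * q := by rw [← this]; group
    exact mul_left_cancel h2
  have hxq : x * q * x ≠ q := by
    intro h'
    apply hqx
    calc q * x = (x * q * x) * x := by rw [h']
      _ = x * q * (x * x) := by group
      _ = x * q := by rw [hx2, mul_one]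
  rcases mem_closure_pair_invol hes.z_sq hx2 hzx hecl with h1 | h1 | h1 | h1
  · -- e = 1
    have hcq : c * q = q * c := by
      rw [h1, mul_one] at hqe
      calc c * q = (c * q * c⁻¹) * c := by group
        _ = q * c := by rw [← hqe]
    rcases h.centralizer_R_aux hq hx hqx hc hcq with h2 | h2
    · exact Or.inl h2
    · exact Or.inr (Or.inl h2)
  · -- e = z
    rw [h1] at hqe
    have hcq : c * q = q * z * c := by
      calc c * q = (c * q * c⁻¹) * c := by group
        _ = q * z * c := by rw [← hqe]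
    have hxq' : x * q = z * (q * x) := by
      rw [hqx', ← mul_assoc, hes.z_sq, one_mul]
    have hc' : ∀ r ∈ QQ z, r * x = x * r → (c * x) * r = r * (c * x) := by
      intro r hr hrx
      rw [mul_assoc, ← hrx, ← mul_assoc, hc r hr hrx, mul_assoc]
    have hcq' : (c * x) * q = q * (c * x) := by
      calc c * x * q = c * (x * q) := by group
        _ = c * (z * (q * x)) := by rw [hxq']
        _ = (c * z) * q * x := by group
        _ = (z * c) * q * x := by rw [hcz]
        _ = z * (c * q) * x := by group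
        _ = z * (q * z * c) * x := by rw [hcq]
        _ = (z * q) * z * c * x := by group
        _ = (q * z) * z * c * x := by rw [hes.z_comm q hq]
        _ = q * (z * z) * c * x := by group
        _ = q * (c * x) := by rw [hes.z_sq]; group
    have ix : x⁻¹ = x := inv_eq_of_mul_eq_one_left hx2
    rcases h.centralizer_R_aux hq hx hqx hc' hcq' with h2 | h2
    · right; right; left
      have : c = x⁻¹ := eq_inv_of_mul_eq_one_left h2
      rw [this, ix]
    · right; right; right
      have : c = z * x⁻¹ := eq_mul_inv_of_mul_eq h2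
      rw [this, ix, hzx]
  · exact absurd (by rw [← h1]; exact heqe) hxq
  · exfalso
    apply hxq
    rw [h1] at heqe
    calc x * q * x = x * (q * (z * z)) * x := by rw [hes.z_sq, mul_one]
      _ = x * ((q * z) * z) * x := by group
      _ = x * ((z * q) * z) * x := by rw [hes.z_comm q hq]
      _ = x * z * q * (z * x) := by group
      _ = x * z * q * (x * z) := by rw [hzx]
      _ = q := heqe

end LES

theorem centralizer_le_normalizer_QQ (x : G) :
    Subgroup.centralizer ({x} : Set G) ≤ Subgroup.normalizer ((QQ x : Subgroup G) : Set G) := by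
  intro t ht
  rw [Subgroup.mem_normalizer_iff]
  intro a
  refine ⟨fun ha => QQ_conj_mem ht ha, fun ha => ?_⟩
  have := QQ_conj_mem (Subgroup.inv_mem _ ht) ha
  simpa [mul_assoc] using this

/-- Orthogonality of singular involutions is symmetric. -/
theorem LES.symm [Finite G] {z : G} (h : LES z) (g : G) (hx : g * z * g⁻¹ ∈ QQ z) :
    z ∈ QQ (g * z * g⁻¹) := by
  have hLx : LES (g * z * g⁻¹) := h.conj g
  generalize g * z * g⁻¹ = x at hx hLx
  by_cases hxz : x = z
  · rw [hxz]; exact h.es.z_mem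
  have hes := h.es
  have hx1 : x ≠ 1 := ne_one_of_orderOf hLx.order
  have hx2 : x * x = 1 := sq_of_orderOf hLx.order
  have hzx : z * x = x * z := (hes.z_comm x hx).symm
  obtain ⟨q, hq, hqx⟩ : ∃ q ∈ QQ z, q * x ≠ x * q := by
    by_contra hcon
    push Not at hcon
    rcases hes.center x hx (fun b hb => (hcon b hb).symm) with h1 | h1
    · exact hx1 h1
    · exact hxz h1
  have hqx' : q * x = z * (x * q) := (hes.ne_iff hq hx).1 hqx
  have : Fact (Nat.Prime 2) := ⟨Nat.prime_two⟩
  set R : Subgroup G := QQ z ⊓ Subgroup.centralizer ({x} : Set G) with hR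
  set CV : Subgroup G := Subgroup.centralizer ({x} : Set G) ⊓ Subgroup.centralizer ({z} : Set G)
    with hCV
  have hRCV : R ≤ CV := by
    intro r hr
    exact ⟨hr.2, QQ_le_centralizer z hr.1⟩
  obtain ⟨T0, hT0⟩ := Set.Finite.exists_maximal
    (s := {T : Subgroup G | IsPGroup 2 T ∧ R ≤ T ∧ T ≤ CV}) (Set.toFinite _)
    ⟨R, (QQ_isPGroup z).to_le inf_le_left, le_rfl, hRCV⟩
  obtain ⟨⟨hT0p, hRT0, hT0CV⟩, hT0max⟩ := hT0
  have hT0x : T0 ≤ Subgroup.centralizer ({x} : Set G) := hT0CV.trans inf_le_left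
  have hT0z : T0 ≤ Subgroup.centralizer ({z} : Set G) := hT0CV.trans inf_le_right
  have hT'p : IsPGroup 2 (T0 ⊔ QQ x : Subgroup G) :=
    hT0p.to_sup_of_normal_right' (QQ_isPGroup x) (hT0x.trans (centralizer_le_normalizer_QQ x))
  have hT'x : T0 ⊔ QQ x ≤ Subgroup.centralizer ({x} : Set G) :=
    sup_le hT0x (QQ_le_centralizer x)
  by_cases hPT : QQ x ≤ T0
  · apply hLx.cent
    rw [Subgroup.mem_centralizer_iff]
    intro p hp
    have := hT0z (hPT hp)
    rw [Subgroup.mem_centralizer_singleton_iff] at this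
    exact this
  -- the normaliser grows
  have hnil : Group.IsNilpotent ↥(T0 ⊔ QQ x : Subgroup G) := hT'p.isNilpotent
  have hNC : NormalizerCondition ↥(T0 ⊔ QQ x : Subgroup G) := Group.normalizerCondition_of_isNilpotent
  have hlt : T0.subgroupOf (T0 ⊔ QQ x) < ⊤ := by
    rw [lt_top_iff_ne_top, Ne, Subgroup.subgroupOf_eq_top]
    intro hc
    exact hPT (le_sup_right.trans hc)
  obtain ⟨t, htN, htn⟩ := SetLike.exists_of_lt (hNC _ hlt)
  rw [Subgroup.mem_normalizer_iff] at htN
  rw [Subgroup.mem_subgroupOf] at htn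
  have htN' : ∀ a ∈ T0, (t : G)⁻¹ * a * t ∈ T0 := by
    intro a ha
    have := (htN (t⁻¹ * ⟨a, le_sup_left (a := T0) ha⟩ * t))
    rw [Subgroup.mem_subgroupOf, Subgroup.mem_subgroupOf] at this
    apply this.2
    simpa [mul_assoc] using ha
  have htx : (t : G) * x = x * t := by
    have := hT'x t.2
    rwa [Subgroup.mem_centralizer_singleton_iff] at this
  -- t z t⁻¹ centralises R
  have hcen : ∀ r ∈ QQ z, r * x = x * r → ((t : G) * z * (t : G)⁻¹) * r = r * ((t : G) * z * (t : G)⁻¹) := by
    intro r hr hrx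
    have hrR : r ∈ R := Subgroup.mem_inf.2 ⟨hr, Subgroup.mem_centralizer_singleton_iff.2 hrx⟩
    have h1 := hT0z (htN' r (hRT0 hrR))
    rw [Subgroup.mem_centralizer_singleton_iff] at h1
    calc (t : G) * z * (t : G)⁻¹ * r = t * (z * ((t : G)⁻¹ * r * t)) * (t : G)⁻¹ := by group
      _ = t * (((t : G)⁻¹ * r * t) * z) * (t : G)⁻¹ := by rw [h1]
      _ = _ := by group
  have htz : (t : G) * z * (t : G)⁻¹ = x * z := by
    rcases h.centralizer_R hx hx1 hxz hx2 hcen with h1 | h1 | h1 | h1
    · exfalso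
      apply hes.z_ne
      calc z = (t : G)⁻¹ * ((t : G) * z * (t : G)⁻¹) * t := by group
        _ = 1 := by rw [h1]; group
    · exfalso
      have htz : (t : G) * z = z * t := by
        calc (t : G) * z = ((t : G) * z * (t : G)⁻¹) * t := by group
          _ = z * t := by rw [h1]
      have htCV : (t : G) ∈ CV := Subgroup.mem_inf.2
        ⟨Subgroup.mem_centralizer_singleton_iff.2 htx, Subgroup.mem_centralizer_singleton_iff.2 htz⟩
      have hle : T0 ⊔ Subgroup.zpowers (t : G) ≤ T0 ⊔ QQ x :=
        sup_le le_sup_left (by rw [Subgroup.zpowers_le]; exact t.2)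
      have := hT0max (y := T0 ⊔ Subgroup.zpowers (t : G))
        ⟨hT'p.to_le hle, hRT0.trans le_sup_left,
          sup_le hT0CV (by rw [Subgroup.zpowers_le]; exact htCV)⟩ le_sup_left
      exact htn (this (le_sup_right (a := T0) (Subgroup.mem_zpowers (t : G))))
    · exfalso
      apply hxz
      have : (t : G) * z * (t : G)⁻¹ = t * x * (t : G)⁻¹ := by
        rw [h1, htx]; group
      exact (mul_left_cancel (mul_right_cancel this)).symm
    · exact h1
  -- conclude
  have s1 : x ∈ QQ (x * z) := by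
    have := conj_mem_QQ (t : G) hx
    rw [htz] at this
    have e : (t : G) * x * (t : G)⁻¹ = x := by rw [htx]; group
    rwa [e] at this
  have s2 : z * x ∈ QQ x := by
    have := conj_mem_QQ q s1
    have e1 : q * x * q⁻¹ = z * x := by rw [hqx']; group
    have e2 : q * (x * z) * q⁻¹ = x := by
      calc q * (x * z) * q⁻¹ = (q * x) * (z * q⁻¹) := by group
        _ = z * (x * q) * (z * q⁻¹) := by rw [hqx']
        _ = z * x * (q * z) * q⁻¹ := by group
        _ = z * x * (z * q) * q⁻¹ := by rw [hes.z_comm q hq]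
        _ = (z * x) * z := by group
        _ = (x * z) * z := by rw [hzx]
        _ = x * (z * z) := by group
        _ = x := by rw [hes.z_sq, mul_one]
    rwa [e1, e2] at this
  have := (QQ x).mul_mem s2 hLx.es.z_mem
  rwa [mul_assoc, hx2, mul_one] at this

end Cfsg.Agent.Lib.Helper93
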